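import Groth.Prelude.Def_Formal2
import Groth.Agent.FFun.Basic
import Groth.Agent.Adic7.Limit
import Groth.Agent.QCoh.DevissageTheta
import Mathlib.Algebra.Category.ModuleCat.Sheaf.Limits
import Mathlib.Algebra.Category.ModuleCat.Presheaf.Limits

/-!
# The truncations of the limit of a formal system of quasi-coherent modules
-/

set_option autoImplicit false
set_option backward.isDefEq.respectTransparency false
set_option backward.isDefEq.respectTransparency.types false

universe u

open CategoryTheory CategoryTheory.Limits AlgebraicGeometry TopologicalSpace Opposite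
open Groth.Agent

noncomputable section

namespace Groth.Agent.LimTrunc15

variable {A : Type u} [CommRing A] {X : Scheme.{u}} [X.Over (Spec (CommRingCat.of A))]

theorem epi_exact_of_quot {I : Ideal A} {M N : X.Modules} (g : M ⟶ N)
    (hg : ∃ h : Formal.smulFamily I M ≫ g = 0, IsIso (cokernel.desc _ _ h)) :
    Epi g ∧ ∀ {T : X.Modules} (t : M ⟶ T), Formal.smulFamily I M ≫ t = 0 → ∃ t' : N ⟶ T, g ≫ t' = t := by
  obtain ⟨h, hi⟩ := hg
  haveI := hi
  refine ⟨?_, fun {T} t ht => ⟨inv (cokernel.desc _ _ h) ≫ cokernel.desc _ t ht, ?_⟩⟩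
  · rw [← cokernel.π_desc (Formal.smulFamily I M) g h]
    exact @epi_comp _ _ _ _ _ _ inferInstance _ (IsIso.epi_of_iso _)
  · calc g ≫ inv (cokernel.desc _ _ h) ≫ cokernel.desc _ t ht
        = (cokernel.π _ ≫ cokernel.desc _ _ h) ≫ inv (cokernel.desc _ _ h) ≫ cokernel.desc _ t ht := by
          rw [cokernel.π_desc]
      _ = t := by rw [Category.assoc, IsIso.hom_inv_id_assoc, cokernel.π_desc]

/-- The scalars. -/
def rho (U : X.Opens) : A →+* Γ(X, U) :=
  (show Γ(X, ⊤) →+* Γ(X, U) from Coh.resTop X (op U)).comp (Coh.toGlobal (X ↘ Spec (CommRingCat.of A)))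

/-- Sections as a module over the base. -/
abbrev modA (M : X.Modules) (U : X.Opens) : Module A Γ(M, U) := Module.compHom _ (rho U)

theorem smulMod_app' (M : X.Modules) (a : A) (U : X.Opens) (m : Γ(M, U)) :
    letI := modA (A := A) M U
    (Formal.smulMod A M a).app U m = a • m := rfl

/-- The map on sections over the base. -/
def appA {M N : X.Modules} (φ : M ⟶ N) (U : X.Opens) :
    letI := modA (A := A) M U; letI := modA (A := A) N U; Γ(M, U) →ₗ[A] Γ(N, U) :=
  letI := modA (A := A) M U; letI := modA (A := A) N U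
  { toFun := φ.app U
    map_add' := fun a b => map_add _ a b
    map_smul' := fun r m => Scheme.Modules.Hom.app_smul φ (rho U r) m }

/-- The kernel on affine sections of a presented quotient is the ideal times the sections. -/
theorem ker_appA {I : Ideal A} (hI : I.FG) {M N : X.Modules} (hM : Coh.IsQCoh M) (hN : Coh.IsQCoh N)
    (g : M ⟶ N) (hg : ∃ h : Formal.smulFamily I M ≫ g = 0, IsIso (cokernel.desc _ _ h))
    {U : X.Opens} (hU : IsAffineOpen U) :
    letI := modA (A := A) M U; letI := modA (A := A) N U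
    LinearMap.ker (appA (A := A) g U) = I • (⊤ : Submodule A Γ(M, U)) := by
  classical
  letI := modA (A := A) M U; letI := modA (A := A) N U
  obtain ⟨-, hd⟩ := epi_exact_of_quot g hg
  have hg' := hg
  obtain ⟨h, -⟩ := hg
  have hkill : ∀ a ∈ I, Formal.smulMod A M a ≫ g = 0 := fun a ha => by
    have h' := congrArg (fun t => Sigma.ι (fun _ : I => M) ⟨a, ha⟩ ≫ t) h
    simpa [Formal.smulFamily] using h'
  refine le_antisymm ?_ (Submodule.smul_le.2 fun a ha x _ => ?_)
  · obtain ⟨s, hs⟩ := hI
    haveI : HasFiniteBiproducts X.Modules := Abelian.hasFiniteBiproducts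
    let T : ULift.{u} s → X.Modules := fun _ => M
    let φ : (⨁ T) ⟶ M := biproduct.desc fun a => Formal.smulMod A M (a.down : A)
    have hπ : Formal.smulFamily I M ≫ cokernel.π φ = 0 := by
      have hle : I ≤ (FFun.killIdeal (A := A) (cokernel φ)) := by
        rw [← hs, Ideal.span_le]
        intro a ha
        rw [SetLike.mem_coe, FFun.mem_killIdeal, ← cancel_epi (cokernel.π φ), ← FFun.smulMod_naturality,
          comp_zero]
        have h' := congrArg (fun t => biproduct.ι T ⟨⟨a, ha⟩⟩ ≫ t) (cokernel.condition φ)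
        simp only [comp_zero, ← Category.assoc] at h'
        rwa [show biproduct.ι T ⟨⟨a, ha⟩⟩ ≫ φ = Formal.smulMod A M a from biproduct.ι_desc _ _] at h'
      refine Sigma.hom_ext _ _ fun a => ?_
      rw [← Category.assoc, comp_zero, Formal.smulFamily, Sigma.ι_desc, FFun.smulMod_naturality,
        FFun.mem_killIdeal.1 (hle a.2), comp_zero]
    obtain ⟨t, ht⟩ := hd (cokernel.π φ) hπ
    have hφg : φ ≫ g = 0 := by
      refine biproduct.hom_ext' _ _ fun a => ?_
      rw [comp_zero, ← Category.assoc, biproduct.ι_desc]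
      exact hkill _ (hs ▸ Ideal.subset_span a.down.2)
    have hex : (ShortComplex.mk φ g hφg).Exact := by
      rw [ShortComplex.exact_iff_kernel_ι_comp_cokernel_π_zero]
      show kernel.ι g ≫ cokernel.π φ = 0
      rw [← ht, kernel.condition_assoc, zero_comp]
    haveI : Epi (kernel.lift g φ hφg) := hex.epi_kernelLift
    intro x hx
    have hS : (ShortComplex.mk (kernel.ι g) g (kernel.condition g)).Exact := ShortComplex.exact_kernel g
    haveI := (epi_exact_of_quot g hg').1
    obtain ⟨k, hk⟩ := QCoh.exists_app_f_eq (S := ShortComplex.mk (kernel.ι g) g (kernel.condition g))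
      { exact := ShortComplex.exact_kernel g } U x hx
    obtain ⟨z, hz⟩ := QCoh.app_surjective_of_epi (QCoh.isQCoh_biproduct T fun _ => hM)
      (QCoh.isQCoh_kernel hM hN g) (kernel.lift g φ hφg) hU k
    have e : x = φ.app U z := by
      rw [← hk, ← hz]
      exact (congr(($(kernel.lift_ι g φ hφg)).app U z))
    rw [e, QCoh.biproduct_desc_app]
    refine Submodule.sum_mem _ fun a _ => ?_
    rw [smulMod_app']
    exact Submodule.smul_mem_smul (hs ▸ Ideal.subset_span a.down.2) Submodule.mem_top
  · rw [LinearMap.mem_ker, ← smulMod_app']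
    exact congr(($(hkill a ha)).app U x)

variable (G : ℕᵒᵖ ⥤ X.Modules)

/-- Sections over an open. -/
abbrev secF (U : X.Opens) : X.Modules ⥤ AddCommGrpCat.{u} :=
  (SheafOfModules.forget X.ringCatSheaf ⋙ PresheafOfModules.toPresheaf _) ⋙ (evaluation _ _).obj (op U)

instance preservesLimit_secF (U : X.Opens) : PreservesLimit G (secF U ⋙ forget AddCommGrpCat) := by
  haveI h1 : PreservesLimitsOfShape ℕᵒᵖ (secF (X := X) U) := by
    haveI h2 : PreservesLimitsOfShape ℕᵒᵖ (SheafOfModules.forget.{u} X.ringCatSheaf) := inferInstance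
    haveI h3 : PreservesLimitsOfShape ℕᵒᵖ (PresheafOfModules.toPresheaf.{u} X.ringCatSheaf.obj) := inferInstance
    haveI : PreservesLimitsOfShape ℕᵒᵖ (SheafOfModules.forget X.ringCatSheaf ⋙ PresheafOfModules.toPresheaf _) :=
      @comp_preservesLimitsOfShape _ _ _ _ _ _ _ _ _ _ h2 h3
    exact comp_preservesLimitsOfShape _ _
  infer_instance

theorem limit_sections_ext {U : X.Opens} (x : Γ(limit G, U))
    (h : ∀ n, (limit.π G (op n)).app U x = 0) : x = 0 := by
  have hlim := isLimitOfPreserves (secF U ⋙ forget AddCommGrpCat) (limit.isLimit G)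
  exact (Types.isLimitEquivSections hlim).injective (Subtype.ext (funext fun j => by
    show (limit.π G j).app U x = (limit.π G j).app U 0
    rw [map_zero]; exact h j.unop))

theorem exists_limit_section {U : X.Opens} (y : ∀ n, Γ(G.obj (op n), U))
    (hy : ∀ n, (G.map (homOfLE (Nat.le_succ n)).op).app U (y (n + 1)) = y n) :
    ∃ x : Γ(limit G, U), ∀ n, (limit.π G (op n)).app U x = y n := by
  have hlim := isLimitOfPreserves (secF U ⋙ forget AddCommGrpCat) (limit.isLimit G)
  have hall : ∀ (a b : ℕ) (hab : a ≤ b), (G.map (homOfLE hab).op).app U (y b) = y a := by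
    intro a b hab
    induction b, hab using Nat.le_induction with
    | base =>
      rw [show (homOfLE (le_refl a)).op = 𝟙 (op a) from Subsingleton.elim _ _, G.map_id]
      rfl
    | succ b hab ih =>
      rw [show (homOfLE (Nat.le_succ_of_le hab)).op = (homOfLE (Nat.le_succ b)).op ≫ (homOfLE hab).op from
        Subsingleton.elim _ _, G.map_comp]
      show (G.map (homOfLE hab).op).app U ((G.map (homOfLE (Nat.le_succ b)).op).app U (y (b + 1))) = _
      rw [hy b, ih]
  let sec : (G ⋙ secF U ⋙ forget AddCommGrpCat).sections := ⟨fun j => y j.unop, by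
    intro a b e
    rw [show e = (homOfLE (leOfHom e.unop)).op from Subsingleton.elim _ _]
    exact hall _ _ _⟩
  exact ⟨(Types.isLimitEquivSections hlim).symm sec, fun n =>
    Types.isLimitEquivSections_symm_apply hlim sec (op n)⟩

variable {I : Ideal A}

theorem smulFamily_comp_π (hG : Formal2.IsQCohFormal I G) (n : ℕ) :
    Formal.smulFamily (I ^ (n + 1)) (limit G) ≫ limit.π G (op n) = 0 := by
  refine Sigma.hom_ext _ _ fun a => ?_
  rw [← Category.assoc, comp_zero, Formal.smulFamily, Sigma.ι_desc, FFun.smulMod_naturality,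
    hG.2.1 n _ a.2, comp_zero]

theorem sections_spec (hI : I.FG) (hG : Formal2.IsQCohFormal I G) {U : X.Opens} (hU : IsAffineOpen U) (n : ℕ) :
    Function.Surjective ((limit.π G (op n)).app U) ∧
      ∀ x : Γ(limit G, U), (limit.π G (op n)).app U x = 0 →
        (cokernel.π (Formal.smulFamily (I ^ (n + 1)) (limit G))).app U x = 0 := by
  letI : ∀ m, Module A Γ(G.obj (op m), U) := fun m => modA (A := A) _ U
  letI := modA (A := A) (limit G) U
  have h := (Adic7.limit_quotient_system A I hI (fun m => Γ(G.obj (op m), U))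
    (fun m => appA (A := A) (G.map (homOfLE (Nat.le_succ m)).op) U)
    (fun m => by
      haveI := (epi_exact_of_quot _ (hG.2.2 m)).1
      exact QCoh.app_surjective_of_epi (hG.1 _) (hG.1 _) _ hU)
    (fun m => ker_appA (hI.pow) (hG.1 _) (hG.1 _) _ (hG.2.2 m) hU)
    Γ(limit G, U) (fun m => appA (A := A) (limit.π G (op m)) U)
    (fun m => LinearMap.ext fun x => congr(($(limit.w G (homOfLE (Nat.le_succ m)).op)).app U x))
    (fun x hx => limit_sections_ext G x hx) (fun y hy => exists_limit_section G y hy)).2.1 n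
  refine ⟨h.1, fun x hx => ?_⟩
  let q := cokernel.π (Formal.smulFamily (I ^ (n + 1)) (limit G))
  have hx' : x ∈ LinearMap.ker (appA (A := A) (limit.π G (op n)) U) := hx
  rw [h.2] at hx'
  refine Submodule.smul_induction_on hx' (fun a ha z _ => ?_) (fun a b ha hb => ?_)
  · have h0 : Formal.smulMod A (limit G) a ≫ q = 0 := by
      have h' := congrArg (fun t => Sigma.ι (fun _ : ↥(I ^ (n + 1)) => limit G) ⟨a, ha⟩ ≫ t)
        (cokernel.condition (Formal.smulFamily (I ^ (n + 1)) (limit G)))
      simp only [comp_zero, ← Category.assoc] at h'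
      rwa [show Sigma.ι (fun _ : ↥(I ^ (n + 1)) => limit G) ⟨a, ha⟩ ≫ Formal.smulFamily (I ^ (n + 1)) (limit G) =
        Formal.smulMod A (limit G) a from Sigma.ι_desc _ _] at h'
    rw [← smulMod_app']
    exact congr(($h0).app U z)
  · rw [map_add, ha, hb, add_zero]

theorem main (hI : I.FG) (hG : Formal2.IsQCohFormal I G) (n : ℕ) :
    ∃ h : Formal.smulFamily (I ^ (n + 1)) (limit G) ≫ limit.π G (op n) = 0,
      IsIso (cokernel.desc _ _ h) := by
  refine ⟨smulFamily_comp_π G hG n, ?_⟩
  let π := limit.π G (op n)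
  let q := cokernel.π (Formal.smulFamily (I ^ (n + 1)) (limit G))
  let d := cokernel.desc _ _ (smulFamily_comp_π G hG n)
  have hqd : q ≫ d = π := cokernel.π_desc _ _ _
  haveI : Epi π := by
    refine Preadditive.epi_of_cancel_zero _ fun {T} t ht => QCoh.hom_eq_zero_of_affine t fun W hW y => ?_
    obtain ⟨x, rfl⟩ := (sections_spec G hI hG hW n).1 y
    exact congr(($ht).app W x)
  haveI : Epi d := by
    haveI : Epi (q ≫ d) := by rw [hqd]; infer_instance
    exact epi_of_epi q d
  have hk : kernel.ι π ≫ q = 0 := QCoh.hom_eq_zero_of_affine _ fun W hW z =>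
    (sections_spec G hI hG hW n).2 _ (congr(($(kernel.condition π)).app W z))
  haveI : Mono d := by
    refine Preadditive.mono_of_cancel_zero _ fun {T} t ht => ?_
    rw [← cancel_epi (pullback.fst t q), comp_zero, pullback.condition]
    have h1 : pullback.snd t q ≫ π = 0 := by
      rw [← hqd, ← Category.assoc, ← pullback.condition, Category.assoc, ht, comp_zero]
    rw [← kernel.lift_ι π _ h1, Category.assoc, hk, comp_zero]
  exact isIso_of_mono_of_epi d

end Groth.Agent.LimTrunc15

end
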